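import Cfsg.Prelude.Def_SporadicB
import Mathlib

/-!
# Involutions in non-split double covers of small alternating groups
-/

set_option autoImplicit false
set_option linter.style.haveILetI false
set_option linter.unusedSectionVars false

namespace CfsgLib.DoubleCoverInvol

open Equiv Subgroup

variable {H : Type*} [Group H] [Finite H]

/-- A central subgroup of order two has a complement as soon as some subgroup of odd index has one. -/
theorem exists_complement_of_odd_index {z : H} (hz : z ∈ center H) (hz2 : z * z = 1) (hcZ : center H = zpowers z)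
    (hcard : Nat.card (center H) = 2) (P L : Subgroup H) (hP : Odd P.index) (hzP : z ∈ P)
    (hL : (L.subgroupOf P).index = 2) (hzL : z ∉ L) :
    ∃ K : Subgroup H, (center H).IsComplement' K := by
  classical
  set L' := L.subgroupOf P
  let ϕ : P →* ℤˣ := MonoidHom.mk' (fun p => if p ∈ L' then 1 else -1) fun a b => by
    have h := Subgroup.mul_mem_iff_of_index_two hL (a := a) (b := b)
    by_cases ha : a ∈ L' <;> by_cases hb : b ∈ L' <;> simp only [ha, hb, h, if_true, if_false] <;> simp
  have hk : ∀ g₀ : H, ∀ k : ℕ, g₀⁻¹ * z ^ k * g₀ = z ^ k := fun g₀ k => by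
    rw [mul_assoc, ← Subgroup.mem_center_iff.1 (pow_mem hz k) g₀, ← mul_assoc, inv_mul_cancel, one_mul]
  have htr : MonoidHom.transfer ϕ z = -1 := by
    rw [MonoidHom.transfer_eq_pow ϕ z fun k g₀ _ => hk g₀ k]
    obtain ⟨m, hm⟩ := hP
    have hpow : z ^ P.index = z := by
      rw [hm, pow_succ, pow_mul, pow_two, hz2, one_pow, one_mul]
    have : (⟨z ^ P.index, MonoidHom.transfer_eq_pow_aux z fun k g₀ _ => hk g₀ k⟩ : P) = ⟨z, hzP⟩ :=
      Subtype.ext hpow
    rw [this]
    show (if (⟨z, hzP⟩ : P) ∈ L' then (1 : ℤˣ) else -1) = -1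
    rw [if_neg (fun h => hzL (Subgroup.mem_subgroupOf.1 h))]
  refine ⟨(MonoidHom.transfer ϕ).ker, Subgroup.isComplement'_of_card_mul_and_disjoint ?_ ?_⟩
  · rw [hcard, ← Subgroup.index_mul_card (MonoidHom.transfer ϕ).ker]
    congr 1
    rw [Subgroup.index_ker]
    have : (MonoidHom.transfer ϕ).range = ⊤ := by
      refine eq_top_iff.2 fun u _ => ?_
      rcases Int.units_eq_one_or u with rfl | rfl
      · exact one_mem _
      · exact ⟨z, htr⟩
    rw [this, Subgroup.card_top, Nat.card_eq_fintype_card]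
    rfl
  · rw [Subgroup.disjoint_def]
    intro x hx hk'
    rw [hcZ] at hx
    obtain ⟨k, rfl⟩ := hx
    rcases Int.even_or_odd k with ⟨e, rfl⟩ | ⟨e, rfl⟩
    · dsimp only
      rw [← two_mul, zpow_mul, zpow_two, hz2, one_zpow]
    · exfalso
      dsimp only at hk'
      have h1 : z ^ (2 * e + 1) = z := by rw [zpow_add, zpow_mul, zpow_two, hz2, one_zpow, one_mul, zpow_one]
      rw [MonoidHom.mem_ker] at hk'
      simp only [h1, htr] at hk'
      exact absurd hk' (by decide)

variable {Q : Type*} [Group Q] [Finite Q] (π : H →* Q) (hker : π.ker = center H) (hcard : Nat.card (center H) = 2)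
  (hsurj : Function.Surjective π)
include hker hcard hsurj

/-- Lifting a dihedral Sylow subgroup generated by two involutions. -/
theorem exists_complement {a' b' : H} {m j : ℕ} (hm : 2 ≤ m) (ha : a' * a' = 1) (hb : b' * b' = 1)
    (ha1 : π a' ≠ 1) (hord : orderOf (π a' * π b') = m) (hw : (a' * b') ^ m = 1)
    (hQ : Nat.card Q = 2 * m * j) (hj : Odd j) (hcomm : m = 2 → π b' ≠ 1) :
    ∃ K : Subgroup H, (center H).IsComplement' K := by
  classical
  obtain ⟨z, hz, hz1, hzu⟩ : ∃ z, z ∈ center H ∧ z ≠ 1 ∧ ∀ x ∈ center H, x = 1 ∨ x = z := by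
    obtain ⟨⟨u, hu⟩, hu1⟩ : ∃ u : center H, u ≠ 1 := by
      haveI : Nontrivial (center H) := Finite.one_lt_card_iff_nontrivial.1 (by omega)
      exact exists_ne 1
    have hu' : u ≠ 1 := fun h => hu1 (Subtype.ext h)
    refine ⟨u, hu, hu', fun x hx => ?_⟩
    by_contra hne
    push Not at hne
    haveI := Fintype.ofFinite (center H)
    have h3 : ({1, ⟨u, hu⟩, ⟨x, hx⟩} : Finset (center H)).card = 3 := by
      rw [Finset.card_eq_three]
      exact ⟨1, ⟨u, hu⟩, ⟨x, hx⟩, fun h => hu1 h.symm, fun h => hne.1 (congrArg Subtype.val h).symm,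
        fun h => hne.2 (congrArg Subtype.val h).symm, rfl⟩
    have := Finset.card_le_univ ({1, ⟨u, hu⟩, ⟨x, hx⟩} : Finset (center H))
    rw [h3, ← Nat.card_eq_fintype_card, hcard] at this
    omega
  have hz2 : z * z = 1 := by
    rcases hzu (z * z) (mul_mem hz hz) with h | h
    · exact h
    · exact absurd (by simpa using h) hz1
  have hcZ : center H = zpowers z := by
    refine le_antisymm (fun x hx => ?_) ((Subgroup.zpowers_le).2 hz)
    rcases hzu x hx with rfl | rfl
    · exact one_mem _
    · exact mem_zpowers x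
  set w := a' * b' with hwdef
  have hinv : a' * w * a' = w⁻¹ := by
    rw [hwdef, mul_inv_rev, inv_eq_of_mul_eq_one_right ha, inv_eq_of_mul_eq_one_right hb, ← mul_assoc a' a',
      ha, one_mul]
  have hconj : ∀ x ∈ zpowers w, a' * x * a'⁻¹ ∈ zpowers w := by
    rintro x ⟨k, rfl⟩
    refine ⟨-k, ?_⟩
    show w ^ (-k) = _
    rw [zpow_neg, ← inv_zpow, ← hinv]
    conv_lhs => rw [show a' * w * a' = a' * w * a'⁻¹ from by rw [inv_eq_of_mul_eq_one_right ha]]
    exact conj_zpow
  have hworder : orderOf w = m := by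
    refine Nat.dvd_antisymm (orderOf_dvd_of_pow_eq_one hw) ?_
    rw [← hord, ← map_mul]
    exact orderOf_map_dvd π _
  -- the subgroup generated by the two involutions
  let L : Subgroup H :=
    { carrier := {x | x ∈ zpowers w ∨ x * a' ∈ zpowers w}
      one_mem' := Or.inl (one_mem _)
      mul_mem' := by
        rintro x y (hx | hx) (hy | hy)
        · exact Or.inl (mul_mem hx hy)
        · exact Or.inr (by rw [mul_assoc]; exact mul_mem hx hy)
        · refine Or.inr ?_
          have := mul_mem hx (hconj y hy)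
          rwa [inv_eq_of_mul_eq_one_right ha, show x * a' * (a' * y * a') = x * (a' * a') * y * a' by group, ha,
            mul_one] at this
        · refine Or.inl ?_
          have := mul_mem hx (hconj (y * a') hy)
          rwa [inv_eq_of_mul_eq_one_right ha, show x * a' * (a' * (y * a') * a') = x * (a' * a') * y * (a' * a') by group,
            ha, mul_one, mul_one] at this
      inv_mem' := by
        rintro x (hx | hx)
        · exact Or.inl (inv_mem hx)
        · refine Or.inr ?_
          have := hconj _ (inv_mem hx)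
          rwa [mul_inv_rev, inv_eq_of_mul_eq_one_right ha, show a' * (a' * x⁻¹) * a' = a' * a' * x⁻¹ * a' by group,
            ha, one_mul] at this }
  have hna : ¬ π a' ∈ zpowers (π w) := by
    intro h
    obtain ⟨k, hk⟩ := h
    simp only at hk
    have hc : Commute (π a') (π w) := hk ▸ (Commute.refl (π w)).zpow_left k
    have h2 : π w * π w = 1 := by
      have h3 : π a' * π w * π a' = (π w)⁻¹ := by rw [← map_mul, ← map_mul, hinv, map_inv]
      rw [hc.eq, mul_assoc, ← map_mul, ← map_mul, ha, mul_one] at h3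
      conv_lhs => arg 2; rw [h3]
      exact mul_inv_cancel _
    have hm2 : m = 2 := by
      have h4 : orderOf (π w) ∣ 2 := orderOf_dvd_of_pow_eq_one (by rw [sq, h2])
      rw [map_mul, hord] at h4
      have := Nat.le_of_dvd (by norm_num) h4
      omega
    rcases Int.even_or_odd k with ⟨e, rfl⟩ | ⟨e, rfl⟩
    · exact ha1 (by rw [← hk, ← two_mul, zpow_mul, zpow_two, h2, one_zpow])
    · rw [zpow_add, zpow_mul, zpow_two, h2, one_zpow, one_mul, zpow_one, map_mul] at hk
      exact hcomm hm2 (mul_left_cancel (hk.trans (mul_one _).symm))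
  have hzL : z ∉ L := by
    rintro (⟨k, hk⟩ | ⟨k, hk⟩) <;> simp only at hk
    · have h1 : π w ^ k = 1 := by
        rw [← map_zpow, hk, ← MonoidHom.mem_ker, hker]; exact hz
      rw [map_mul] at h1
      have h2 := orderOf_dvd_iff_zpow_eq_one.2 h1
      rw [hord, ← hworder, orderOf_dvd_iff_zpow_eq_one] at h2
      exact hz1 (by rw [← hk, h2])
    · refine hna ⟨k, ?_⟩
      show π w ^ k = π a'
      have hπz : π z = 1 := by rw [← MonoidHom.mem_ker, hker]; exact hz
      rw [← map_zpow, hk, map_mul, hπz, one_mul]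
  -- the count
  let f : Fin m × Fin 2 → L := fun p => ⟨w ^ (p.1 : ℕ) * a' ^ (p.2 : ℕ), by
    refine mul_mem (Or.inl (pow_mem (mem_zpowers _) _)) (pow_mem (Or.inr ?_) _)
    rw [ha]; exact one_mem _⟩
  have hf : Function.Bijective f := by
    constructor
    · rintro ⟨i, e⟩ ⟨i', e'⟩ h
      have h1 : w ^ (i : ℕ) * a' ^ (e : ℕ) = w ^ (i' : ℕ) * a' ^ (e' : ℕ) := congrArg Subtype.val h
      have hee : e = e' := by
        by_contra hne
        refine hna ?_
        have h2 := congrArg π h1
        simp only [map_mul, map_pow] at h2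
        fin_cases e <;> fin_cases e' <;> simp at hne h2
        · have h3 : π a' = (π w ^ (i' : ℕ))⁻¹ * π w ^ (i : ℕ) := eq_inv_mul_of_mul_eq h2.symm
          rw [h3]
          exact mul_mem (inv_mem (pow_mem (mem_zpowers _) _)) (pow_mem (mem_zpowers _) _)
        · have h3 : π a' = (π w ^ (i : ℕ))⁻¹ * π w ^ (i' : ℕ) := eq_inv_mul_of_mul_eq h2
          rw [h3]
          exact mul_mem (inv_mem (pow_mem (mem_zpowers _) _)) (pow_mem (mem_zpowers _) _)
      subst hee
      refine Prod.ext (Fin.ext ?_) rfl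
      exact pow_injOn_Iio_orderOf (x := w) (by rw [hworder]; exact i.isLt) (by rw [hworder]; exact i'.isLt)
        (mul_right_cancel h1)
    · rintro ⟨x, hx | hx⟩
      · obtain ⟨i, hi, rfl⟩ := Finset.mem_image.1 ((mem_zpowers_iff_mem_range_orderOf).1 hx)
        rw [Finset.mem_range, hworder] at hi
        exact ⟨⟨⟨i, hi⟩, 0⟩, Subtype.ext (by simp [f])⟩
      · obtain ⟨i, hi, hix⟩ := Finset.mem_image.1 ((mem_zpowers_iff_mem_range_orderOf).1 hx)
        rw [Finset.mem_range, hworder] at hi
        refine ⟨⟨⟨i, hi⟩, 1⟩, Subtype.ext ?_⟩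
        show w ^ i * a' ^ 1 = x
        rw [pow_one, hix, mul_assoc, ha, mul_one]
  have hLcard : Nat.card L = 2 * m := by
    rw [← Nat.card_eq_of_bijective f hf, Nat.card_prod, Nat.card_fin, Nat.card_fin, mul_comm]
  -- the odd index subgroup
  let P : Subgroup H :=
    { carrier := {x | x ∈ L ∨ x * z ∈ L}
      one_mem' := Or.inl (one_mem _)
      mul_mem' := by
        have hc : ∀ g, g * z = z * g := fun g => Subgroup.mem_center_iff.1 hz g
        rintro x y (hx | hx) (hy | hy)
        · exact Or.inl (mul_mem hx hy)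
        · exact Or.inr (by rw [mul_assoc]; exact mul_mem hx hy)
        · refine Or.inr ?_
          have := mul_mem hx hy
          rwa [mul_assoc, ← hc y, ← mul_assoc] at this
        · refine Or.inl ?_
          have := mul_mem hx hy
          rwa [show x * z * (y * z) = x * y * (z * z) by rw [mul_assoc x, ← mul_assoc z, ← hc y]; group, hz2,
            mul_one] at this
      inv_mem' := by
        rintro x (hx | hx)
        · exact Or.inl (inv_mem hx)
        · refine Or.inr ?_
          have := inv_mem hx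
          rwa [mul_inv_rev, inv_eq_of_mul_eq_one_right hz2, ← Subgroup.mem_center_iff.1 hz x⁻¹] at this }
  have hzP : z ∈ P := Or.inr (by rw [hz2]; exact one_mem _)
  have hLP : L ≤ P := fun x hx => Or.inl hx
  have hidx : (L.subgroupOf P).index = 2 := by
    rw [Subgroup.index_eq_two_iff]
    refine ⟨⟨z, hzP⟩, fun b => ?_⟩
    show Xor' ((b : H) * z ∈ L) ((b : H) ∈ L)
    rcases b.2 with hb | hb
    · exact Or.inr ⟨hb, fun h => hzL (by simpa [← mul_assoc] using mul_mem (inv_mem hb) h)⟩
    · exact Or.inl ⟨hb, fun h => hzL (by simpa [← mul_assoc] using mul_mem (inv_mem h) hb)⟩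
  have hPcard : Nat.card P = 2 * (2 * m) := by
    rw [← Subgroup.index_mul_card (L.subgroupOf P), hidx, Nat.card_congr (Subgroup.subgroupOfEquivOfLe hLP).toEquiv,
      hLcard]
  have hPidx : P.index = j := by
    have h := P.card_mul_index
    have hH : Nat.card H = 2 * (2 * m * j) := by
      rw [← Subgroup.index_mul_card π.ker, Subgroup.index_ker, MonoidHom.range_eq_top.2 hsurj, Subgroup.card_top,
        hker, hcard, hQ, mul_comm]
    rw [hPcard, hH] at h
    exact Nat.eq_of_mul_eq_mul_left (by omega : 0 < 2 * (2 * m)) (by rw [h]; ring)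
  exact exists_complement_of_odd_index hz hz2 hcZ hcard P L (hPidx ▸ hj) hzP hidx hzL

omit hker hcard hsurj

/-- Involutions of a small alternating group are conjugate. -/
theorem exists_conj_of_involution {n : ℕ} (hn : n ≤ 7) {σ τ : alternatingGroup (Fin n)} (hσ : σ * σ = 1)
    (hσ1 : σ ≠ 1) (hτ : τ * τ = 1) (hτ1 : τ ≠ 1) : ∃ g : alternatingGroup (Fin n), τ = g * σ * g⁻¹ := by
  have htype : ∀ ρ : alternatingGroup (Fin n), ρ * ρ = 1 → ρ ≠ 1 → (ρ : Perm (Fin n)).cycleType = {2, 2} := by
    intro ρ h h1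
    have hord : orderOf (ρ : Perm (Fin n)) = 2 :=
      orderOf_eq_prime (by rw [sq, ← Subgroup.coe_mul, h, Subgroup.coe_one]) fun he => h1 (Subtype.ext he)
    obtain ⟨k, hk⟩ := Equiv.Perm.cycleType_prime_order (σ := (ρ : Perm (Fin n))) (by rw [hord]; exact Nat.prime_two)
    rw [hord] at hk
    have hsum : (ρ : Perm (Fin n)).cycleType.sum ≤ n := by
      rw [Equiv.Perm.sum_cycleType]
      exact (Finset.card_le_univ _).trans (by simp)
    have hsign : Equiv.Perm.sign (ρ : Perm (Fin n)) = 1 := ρ.2
    rw [Equiv.Perm.sign_of_cycleType, hk] at hsign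
    rw [hk] at hsum ⊢
    simp at hsum hsign
    have hk1 : k = 1 := by
      have hk3 : k ≤ 2 := by omega
      interval_cases k
      · exact absurd hsign (by decide)
      · rfl
      · exact absurd hsign (by decide)
    rw [hk1]; rfl
  obtain ⟨g, hg⟩ := isConj_iff.1 (Equiv.Perm.isConj_iff_cycleType_eq.2 ((htype σ hσ hσ1).trans (htype τ hτ hτ1).symm))
  rcases Int.units_eq_one_or (Equiv.Perm.sign g) with hs | hs
  · exact ⟨⟨g, Equiv.Perm.mem_alternatingGroup.2 hs⟩, Subtype.ext hg.symm⟩
  · obtain ⟨a, ha⟩ : ∃ a, (σ : Perm (Fin n)) a ≠ a := by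
      by_contra h
      push Not at h
      exact hσ1 (Subtype.ext (Equiv.ext h))
    set s := Equiv.swap a ((σ : Perm (Fin n)) a)
    have hinvol : ∀ x, (σ : Perm (Fin n)) ((σ : Perm (Fin n)) x) = x := fun x => by
      have := congrArg (fun ρ : alternatingGroup (Fin n) => (ρ : Perm (Fin n)) x) hσ
      simpa using this
    have hcs : s * (σ : Perm (Fin n)) * s⁻¹ = σ := by
      have h1 := Equiv.swap_apply_apply (σ : Perm (Fin n)) a ((σ : Perm (Fin n)) a)
      rw [hinvol, Equiv.swap_comm] at h1
      have h2 : s * (σ : Perm (Fin n)) = (σ : Perm (Fin n)) * s := by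
        conv_lhs => rw [show s = (σ : Perm (Fin n)) * s * (σ : Perm (Fin n))⁻¹ from h1]
        rw [inv_mul_cancel_right]
      rw [h2, mul_inv_cancel_right]
    refine ⟨⟨g * s, Equiv.Perm.mem_alternatingGroup.2 ?_⟩, Subtype.ext ?_⟩
    · rw [map_mul, hs, Equiv.Perm.sign_swap ha.symm]; rfl
    · show (τ : Perm (Fin n)) = g * s * (σ : Perm (Fin n)) * (g * s)⁻¹
      rw [mul_inv_rev, show g * s * (σ : Perm (Fin n)) * (s⁻¹ * g⁻¹) = g * (s * (σ : Perm (Fin n)) * s⁻¹) * g⁻¹ by group,
        hcs, hg]

/-- For degree at most seven there is only one involution. -/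
theorem involution_unique {n : ℕ} (hn : n ≤ 7) (hH : Cfsg.IsNonsplitDoubleCover H (alternatingGroup (Fin n)))
    {x y : H} (hx : orderOf x = 2) (hy : orderOf y = 2) : x = y := by
  classical
  obtain ⟨hcard, ⟨e⟩, hns⟩ := hH
  set π : H →* alternatingGroup (Fin n) := e.toMonoidHom.comp (QuotientGroup.mk' (center H))
  have hker : π.ker = center H := by
    ext g
    simp [π, MonoidHom.mem_ker]
  have hsurj : Function.Surjective π := e.surjective.comp (QuotientGroup.mk'_surjective _)
  by_contra hne
  -- some involution lies outside the centre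
  obtain ⟨u, hu2, huZ⟩ : ∃ u : H, orderOf u = 2 ∧ u ∉ center H := by
    by_cases hxZ : x ∈ center H
    · refine ⟨y, hy, fun hyZ => hne ?_⟩
      haveI := Fintype.ofFinite (center H)
      by_contra _
      have h3 : ({1, ⟨x, hxZ⟩, ⟨y, hyZ⟩} : Finset (center H)).card = 3 := by
        rw [Finset.card_eq_three]
        refine ⟨1, ⟨x, hxZ⟩, ⟨y, hyZ⟩, fun h => ?_, fun h => ?_, fun h => hne (congrArg Subtype.val h), rfl⟩
        · have h' : (1 : H) = x := congrArg Subtype.val h
          rw [← h', orderOf_one] at hx; omega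
        · have h' : (1 : H) = y := congrArg Subtype.val h
          rw [← h', orderOf_one] at hy; omega
      have := Finset.card_le_univ ({1, ⟨x, hxZ⟩, ⟨y, hyZ⟩} : Finset (center H))
      rw [h3, ← Nat.card_eq_fintype_card, hcard] at this
      omega
    · exact ⟨x, hx, hxZ⟩
  have hu : u * u = 1 := by rw [← sq, ← hu2, pow_orderOf_eq_one]
  have hπu : π u ≠ 1 := fun h => huZ (hker ▸ h)
  -- every involution downstairs lifts to an involution
  have hlift : ∀ σ : alternatingGroup (Fin n), σ * σ = 1 → σ ≠ 1 → ∀ h : H, π h = σ → h * h = 1 := by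
    intro σ hσ hσ1 h hh
    obtain ⟨g, hg⟩ := exists_conj_of_involution hn (σ := π u) (τ := σ) (by rw [← map_mul, hu, map_one]) hπu hσ hσ1
    obtain ⟨g', rfl⟩ := hsurj g
    have hc : (g' * u * g'⁻¹)⁻¹ * h ∈ center H := by
      rw [← hker, MonoidHom.mem_ker, map_mul, map_inv, map_mul, map_mul, map_inv, hh, ← hg, inv_mul_cancel]
    set c := (g' * u * g'⁻¹)⁻¹ * h
    have hh' : h = g' * u * g'⁻¹ * c := (mul_inv_cancel_left _ h).symm
    have hc2 : c * c = 1 := by
      have := pow_card_eq_one' (x := (⟨c, hc⟩ : center H))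
      rw [hcard, sq] at this
      exact congrArg Subtype.val this
    rw [hh', mul_assoc (g' * u * g'⁻¹), ← mul_assoc c, ← Subgroup.mem_center_iff.1 hc (g' * u * g'⁻¹),
      mul_assoc (g' * u * g'⁻¹) c c, hc2, mul_one, show g' * u * g'⁻¹ * (g' * u * g'⁻¹) = g' * (u * u) * g'⁻¹ by group,
      hu, mul_one, mul_inv_cancel]
  have hfour : 4 ≤ n := by
    by_contra hlt
    have h2 : (π u : Perm (Fin n)).cycleType.sum ≤ n := by
      rw [Equiv.Perm.sum_cycleType]
      exact (Finset.card_le_univ _).trans (by simp)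
    have h0 : π u * π u = 1 := by rw [← map_mul, hu, map_one]
    revert h0 hπu
    generalize π u = σ
    revert σ
    interval_cases n <;> decide
  -- two generating involutions
  obtain ⟨a, b, m, j, hm, hab, ha, hb, ha1, hb1, hQ, hj⟩ : ∃ (a b : alternatingGroup (Fin n)) (m j : ℕ),
      2 ≤ m ∧ orderOf (a * b) = m ∧ a * a = 1 ∧ b * b = 1 ∧ a ≠ 1 ∧ b ≠ 1 ∧
        Nat.card (alternatingGroup (Fin n)) = 2 * m * j ∧ Odd j ∧ (m = 2 ∨ m = 4) := by
    haveI : Nontrivial (Fin n) := Fin.nontrivial_iff_two_le.2 (by omega)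
    rw [nat_card_alternatingGroup, Nat.card_fin]
    interval_cases n
    · refine ⟨⟨swap 0 1 * swap 2 3, Perm.mem_alternatingGroup.2 (by decide)⟩, ⟨swap 0 2 * swap 1 3, Perm.mem_alternatingGroup.2 (by decide)⟩, 2, 3, le_rfl,
        orderOf_eq_prime (by decide) (by decide), by decide, by decide, by decide, by decide, by decide, by decide, Or.inl rfl⟩
    · refine ⟨⟨swap 0 1 * swap 2 3, Perm.mem_alternatingGroup.2 (by decide)⟩, ⟨swap 0 2 * swap 1 3, Perm.mem_alternatingGroup.2 (by decide)⟩, 2, 15, le_rfl,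
        orderOf_eq_prime (by decide) (by decide), by decide, by decide, by decide, by decide, by decide, by decide, Or.inl rfl⟩
    · refine ⟨⟨swap 0 1 * swap 4 5, Perm.mem_alternatingGroup.2 (by decide)⟩, ⟨swap 0 2 * swap 1 3, Perm.mem_alternatingGroup.2 (by decide)⟩, 4, 45, by norm_num,
        orderOf_eq_prime_pow (p := 2) (n := 1) (by decide) (by decide), by decide, by decide, by decide, by decide, by decide, by decide, Or.inr rfl⟩
    · refine ⟨⟨swap 0 1 * swap 4 5, Perm.mem_alternatingGroup.2 (by decide)⟩, ⟨swap 0 2 * swap 1 3, Perm.mem_alternatingGroup.2 (by decide)⟩, 4, 315, by norm_num,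
        orderOf_eq_prime_pow (p := 2) (n := 1) (by decide) (by decide), by decide, by decide, by decide, by decide, by decide, by decide, Or.inr rfl⟩
  obtain ⟨a', ha'⟩ := hsurj a
  obtain ⟨b', hb'⟩ := hsurj b
  have hw : (a' * b') ^ m = 1 := by
    rcases hj.2 with rfl | rfl
    · rw [sq]
      refine hlift (a * b) ?_ ?_ _ (by rw [map_mul, ha', hb'])
      · rw [← sq, ← hab, pow_orderOf_eq_one]
      · intro h; rw [h, orderOf_one] at hab; omega
    · rw [pow_succ', pow_succ', pow_succ', pow_one, ← mul_assoc]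
      refine hlift (a * b * (a * b)) ?_ ?_ _ (by rw [map_mul, map_mul, ha', hb'])
      · rw [← sq, ← sq, ← pow_mul]
        show (a * b) ^ 4 = 1
        rw [← hab, pow_orderOf_eq_one]
      · intro h
        have := orderOf_dvd_of_pow_eq_one (x := a * b) (n := 2) (by rw [sq, h])
        rw [hab] at this
        norm_num at this
  obtain ⟨K, hK⟩ := exists_complement π hker hcard hsurj (a' := a') (b' := b') hm
    (hlift a ha ha1 a' ha') (hlift b hb hb1 b' hb') (by rwa [ha']) (by rwa [ha', hb']) hw hQ hj.1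
    (fun _ => by rwa [hb'])
  exact hns K hK

end CfsgLib.DoubleCoverInvol
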