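import Cfsg.Prelude.Def_SporadicB
import Mathlib

/-!
# A double cover of the alternating group of degree eight with two involutions
-/

set_option autoImplicit false
set_option linter.style.haveILetI false

namespace CfsgLib.DoubleCoverInvol.Eight

open Equiv Matrix

/-- Vectors over two elements. -/
abbrev V : Type := Fin 4 → ZMod 2

/-- The matrices of degree sixteen. -/
abbrev M : Type := Matrix V V (ZMod 3)

instance : Fact (Nat.Prime 3) := ⟨Nat.prime_three⟩

/-- The sign of a residue. -/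
def sgn (x : ZMod 2) : ZMod 3 := if x = 0 then 1 else -1

theorem sgn_add : ∀ x y : ZMod 2, sgn (x + y) = sgn x * sgn y := by decide

theorem sgn_ne_zero : ∀ x : ZMod 2, sgn x ≠ 0 := by decide

/-- The scalar product. -/
def dot (b w : V) : ZMod 2 := b 0 * w 0 + b 1 * w 1 + b 2 * w 2 + b 3 * w 3

/-- The signed translations. -/
def pm (a b : V) : M := Matrix.of fun v w => if v = w + a then sgn (dot b w) else 0

theorem pm_mul (a b a' b' : V) : pm a b * pm a' b' = sgn (dot b a') • pm (a + a') (b + b') := by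
  ext v w
  rw [Matrix.mul_apply, Finset.sum_eq_single (w + a')]
  · simp only [pm, of_apply, Matrix.smul_apply, if_true, smul_eq_mul]
    rw [show w + a' + a = w + (a + a') by abel]
    split_ifs
    · rw [← sgn_add, ← sgn_add]
      congr 1
      simp only [dot, Pi.add_apply]
      ring
    · simp
  · intro u _ hu
    simp [pm, hu]
  · simp

theorem pm_zero : pm 0 0 = 1 := by
  ext v w
  simp [pm, dot, sgn, one_apply]

/-- The first coordinates of the generators. -/
def ga : Fin 8 → V := ![![0,0,0,0], ![1,0,0,0], ![1,1,0,0], ![1,0,1,0], ![1,1,1,0], ![1,0,0,1], ![1,1,0,1], ![1,0,1,1]]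

/-- The second coordinates of the generators. -/
def gb : Fin 8 → V := ![![1,0,0,0], ![0,0,0,0], ![1,1,0,0], ![1,1,1,0], ![1,0,1,1], ![1,1,1,1], ![1,0,0,1], ![1,1,0,1]]

theorem gen_table : ∀ i j : Fin 8, sgn (dot (gb i) (ga j)) + (if i = j then 0 else sgn (dot (gb j) (ga i))) =
    (if i = j then 1 else 0) := by decide +kernel

/-- The generators. -/
def e (i : Fin 8) : M := pm (ga i) (gb i)

theorem e_sq (i : Fin 8) : e i * e i = 1 := by
  rw [e, pm_mul, CharTwo.add_self_eq_zero, CharTwo.add_self_eq_zero, pm_zero]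
  have := gen_table i i
  simp only [if_true, add_zero] at this
  rw [this, one_smul]

theorem e_anti {i j : Fin 8} (h : i ≠ j) : e i * e j = -(e j * e i) := by
  rw [e, e, pm_mul, pm_mul, add_comm (ga j), add_comm (gb j), ← neg_smul]
  congr 1
  have := gen_table i j
  rw [if_neg h, if_neg h] at this
  exact eq_neg_of_add_eq_zero_left this

theorem scalar_of_commute {A : M} (h : ∀ i, A * e i = e i * A) : ∃ c : ZMod 3, A = c • 1 := by
  let S : AddSubgroup (V × V) :=
    { carrier := {p | A * pm p.1 p.2 = pm p.1 p.2 * A}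
      zero_mem' := by simp [pm_zero]
      add_mem' := by
        intro p q hp hq
        simp only [Set.mem_setOf_eq] at hp hq ⊢
        have h1 : A * (pm p.1 p.2 * pm q.1 q.2) = pm p.1 p.2 * pm q.1 q.2 * A := by
          rw [← mul_assoc, hp, mul_assoc, hq, ← mul_assoc]
        rw [pm_mul, mul_smul_comm, smul_mul_assoc] at h1
        exact smul_right_injective _ (sgn_ne_zero _) h1
      neg_mem' := by
        intro p hp
        rwa [show -p = p from CharTwo.neg_eq p |> fun _ => Prod.ext (funext fun k => CharTwo.neg_eq _) (funext fun k => CharTwo.neg_eq _)] }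
  have hS : ∀ i, (ga i, gb i) ∈ S := h
  have hgen : ∀ l : List (Fin 8), (l.map fun i => (ga i, gb i)).sum ∈ S := fun l =>
    list_sum_mem fun p hp => by
      obtain ⟨i, -, rfl⟩ := List.mem_map.1 hp
      exact hS i
  have hA : ∀ k : Fin 4, (Pi.single k (1 : ZMod 2), (0 : V)) ∈ S ∧ ((0 : V), Pi.single k (1 : ZMod 2)) ∈ S := by
    have ht : ∀ k : Fin 4,
        (((![[1], [2, 3, 5, 7], [0, 1, 2, 6, 7], [4, 5, 6, 7]] : Fin 4 → List (Fin 8)) k).map
          (fun i => (ga i, gb i))).sum = ((Pi.single k 1, 0) : V × V) := by decide +kernel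
    have ht' : ∀ k : Fin 4,
        (((![[0], [0, 1, 3, 5, 7], [0, 1, 2, 5, 6], [0, 1, 2, 3, 4]] : Fin 4 → List (Fin 8)) k).map
          (fun i => (ga i, gb i))).sum = (((0 : V), Pi.single k 1) : V × V) := by decide +kernel
    exact fun k => ⟨ht k ▸ hgen _, ht' k ▸ hgen _⟩
  have hall : ∀ a b : V, (a, b) ∈ S := by
    intro a b
    have : ∀ a b : V, (a, b) = ∑ k : Fin 4, ((a k).val • (Pi.single k (1 : ZMod 2), (0 : V)) +
        (b k).val • ((0 : V), Pi.single k (1 : ZMod 2))) := by decide +kernel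
    rw [this a b]
    exact sum_mem fun k _ => add_mem (nsmul_mem (hA k).1 _) (nsmul_mem (hA k).2 _)
  refine ⟨A 0 0, ?_⟩
  ext v w
  have hmulr : ∀ a b : V, (A * pm a b) v w = A v (w + a) * sgn (dot b w) := fun a b => by
    rw [Matrix.mul_apply, Finset.sum_eq_single (w + a)]
    · simp [pm]
    · intro u _ hu; simp [pm, hu]
    · simp
  have hmull : ∀ a b : V, (pm a b * A) v w = sgn (dot b (v + a)) * A (v + a) w := fun a b => by
    rw [Matrix.mul_apply, Finset.sum_eq_single (v + a)]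
    · simp [pm, add_assoc, CharTwo.add_self_eq_zero]
    · intro u _ hu
      have : v ≠ u + a := fun h => hu (by rw [h, add_assoc, CharTwo.add_self_eq_zero, add_zero])
      simp [pm, this]
    · simp
  by_cases hvw : v = w
  · subst hvw
    have h0 := congrFun (congrFun (hall v 0) 0) v
    rw [Matrix.mul_apply, Matrix.mul_apply, Finset.sum_eq_single (v + v), Finset.sum_eq_single v] at h0
    · simpa [pm, dot, sgn, CharTwo.add_self_eq_zero] using h0.symm
    all_goals (try simp)
    · intro u hu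
      exact Or.inl (by
        have : ¬ (0 : V) = u + v := fun h => hu (by
          have := congrArg (· + v) h
          simpa [add_assoc, CharTwo.add_self_eq_zero] using this.symm)
        simp [pm, this])
    · intro u hu
      exact Or.inr (by
        simp [pm, hu])
  · obtain ⟨k, hk⟩ : ∃ k, v k ≠ w k := Function.ne_iff.1 hvw
    have h0 := congrFun (congrFun (hall 0 (Pi.single k 1)) v) w
    rw [hmulr, hmull, add_zero, add_zero] at h0
    have hd : ∀ u : V, dot (Pi.single k 1) u = u k := fun u => by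
      fin_cases k <;> simp [dot, Pi.single_apply]
    rw [hd, hd] at h0
    have hs : sgn (w k) - sgn (v k) ≠ 0 := by
      revert hk; generalize v k = x; generalize w k = y; revert x y; decide
    have : A v w * (sgn (w k) - sgn (v k)) = 0 := by rw [mul_sub, h0]; ring
    rw [(mul_eq_zero.1 this).resolve_right hs]
    simp [hvw]

/-- The reflection vectors. -/
def r (i j : Fin 8) : M := e i - e j

theorem r_sq {i j : Fin 8} (h : i ≠ j) : r i j * r i j = (-1 : M) := by
  rw [r, sub_mul, mul_sub, mul_sub, e_sq, e_sq, e_anti h]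
  have h3 : (1 : M) + 1 + 1 = 0 := by
    ext v w
    by_cases hvw : v = w
    · subst hvw
      simp [Matrix.add_apply]
      decide
    · simp [Matrix.add_apply, hvw]
  calc _ = (1 : M) + 1 + 1 - 1 := by abel
    _ = -1 := by rw [h3, zero_sub]

theorem r_anti {i j k l : Fin 8} (h1 : i ≠ k) (h2 : i ≠ l) (h3 : j ≠ k) (h4 : j ≠ l) :
    r i j * r k l = -(r k l * r i j) := by
  rw [r, r, sub_mul, mul_sub, mul_sub, sub_mul, mul_sub, mul_sub, e_anti h1, e_anti h2, e_anti h3, e_anti h4]
  abel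

/-- The unit of a reflection vector. -/
def ru {i j : Fin 8} (h : i ≠ j) : Mˣ :=
  ⟨r i j, -r i j, by rw [mul_neg, r_sq h, neg_neg], by rw [neg_mul, r_sq h, neg_neg]⟩

theorem ru_conj {i j : Fin 8} (h : i ≠ j) (m : Fin 8) :
    r i j * e m = -(e (Equiv.swap i j m) * r i j) := by
  by_cases h1 : m = i
  · subst h1
    rw [Equiv.swap_apply_left, r, sub_mul, mul_sub, e_sq, e_sq]
    abel
  · by_cases h2 : m = j
    · subst h2
      rw [Equiv.swap_apply_right, r, sub_mul, mul_sub, e_sq, e_sq]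
      abel
    · rw [Equiv.swap_apply_of_ne_of_ne h1 h2, r, sub_mul, mul_sub, e_anti (Ne.symm h1), e_anti (Ne.symm h2)]
      abel

theorem sign_rel (g : Mˣ) (σ : Perm (Fin 8)) (ε : ℤˣ) (h : ∀ m, (g : M) * e m = (ε : ℤ) • (e (σ m) * g)) (g' : Mˣ)
    (σ' : Perm (Fin 8)) (ε' : ℤˣ) (h' : ∀ m, (g' : M) * e m = (ε' : ℤ) • (e (σ' m) * g')) (m : Fin 8) :
    ((g * g' : Mˣ) : M) * e m = ((ε * ε' : ℤˣ) : ℤ) • (e ((σ * σ') m) * ((g * g' : Mˣ) : M)) := by
  rw [Units.val_mul, mul_assoc, h', mul_smul_comm, ← mul_assoc, h, smul_mul_assoc, smul_smul, mul_assoc, Units.val_mul,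
    mul_comm (ε' : ℤ)]
  rfl

/-- Permutations acting on the generators through conjugation. -/
def lifts : Subgroup (Perm (Fin 8)) where
  carrier := {σ | ∃ g : Mˣ, ∀ m, (g : M) * e m = (Perm.sign σ : ℤ) • (e (σ m) * g)}
  one_mem' := ⟨1, fun m => by simp⟩
  mul_mem' := by
    rintro σ σ' ⟨g, hg⟩ ⟨g', hg'⟩
    exact ⟨g * g', fun m => by rw [map_mul]; exact sign_rel g σ _ hg g' σ' _ hg' m⟩
  inv_mem' := by
    rintro σ ⟨g, hg⟩
    refine ⟨g⁻¹, fun m => ?_⟩
    have h := hg (σ⁻¹ m)
    rw [← Perm.mul_apply σ, mul_inv_cancel, Perm.one_apply] at h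
    rw [Perm.sign_inv]
    have h2 := congrArg (fun X => ((g⁻¹ : Mˣ) : M) * X * ((g⁻¹ : Mˣ) : M)) h
    simp only [← mul_assoc, Units.inv_mul, one_mul, mul_smul_comm, smul_mul_assoc] at h2
    rw [mul_assoc ((g⁻¹ : Mˣ) : M) (e m), mul_assoc ((g⁻¹ : Mˣ) : M) (e m * _), mul_assoc (e m), Units.mul_inv,
      mul_one] at h2
    rw [h2, smul_smul, ← Units.val_mul, Int.units_mul_self, Units.val_one, one_smul]

theorem lifts_top : lifts = ⊤ := by
  rw [eq_top_iff, ← Perm.closure_isSwap, Subgroup.closure_le]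
  rintro σ ⟨i, j, hij, rfl⟩
  refine ⟨ru hij, fun m => ?_⟩
  rw [Perm.sign_swap hij, Units.val_neg, Units.val_one, neg_smul, one_smul]
  exact ru_conj hij m

/-- The double cover. -/
def cover : Subgroup (Mˣ × alternatingGroup (Fin 8)) where
  carrier := {p | ∀ m, (p.1 : M) * e m = e ((p.2 : Perm (Fin 8)) m) * p.1}
  one_mem' := fun m => by simp
  mul_mem' := by
    intro p q hp hq m
    simp only [Prod.fst_mul, Prod.snd_mul, Units.val_mul, Subgroup.coe_mul, Perm.mul_apply]
    rw [mul_assoc, hq, ← mul_assoc, hp, mul_assoc]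
  inv_mem' := by
    intro p hp m
    simp only [Prod.fst_inv, Prod.snd_inv, Subgroup.coe_inv]
    have h := hp ((p.2 : Perm (Fin 8))⁻¹ m)
    rw [← Perm.mul_apply (p.2 : Perm (Fin 8)), mul_inv_cancel, Perm.one_apply] at h
    rw [Units.inv_mul_eq_iff_eq_mul, ← mul_assoc, h, Units.mul_inv_cancel_right]

/-- The projection. -/
def proj : cover →* alternatingGroup (Fin 8) := (MonoidHom.snd _ _).comp cover.subtype

theorem proj_surjective : Function.Surjective proj := by
  intro σ
  obtain ⟨g, hg⟩ : (σ : Perm (Fin 8)) ∈ lifts := lifts_top ▸ Subgroup.mem_top _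
  refine ⟨⟨(g, σ), fun m => ?_⟩, rfl⟩
  rw [hg, Perm.mem_alternatingGroup.1 σ.2, Units.val_one, one_smul]

theorem neg_one_mem : ((-1 : Mˣ), (1 : alternatingGroup (Fin 8))) ∈ cover := fun m => by simp

theorem ker_eq {x : cover} : x ∈ proj.ker ↔ x = 1 ∨ x = ⟨_, neg_one_mem⟩ := by
  constructor
  · intro hx
    obtain ⟨⟨g, σ⟩, hg⟩ := x
    obtain rfl : σ = 1 := hx
    obtain ⟨c, hc⟩ := scalar_of_commute (A := (g : M)) fun i => by simpa using hg i
    have hc0 : c ≠ 0 := by
      rintro rfl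
      exact g.ne_zero (by rw [hc, zero_smul])
    have : c = 1 ∨ c = -1 := (show ∀ x : ZMod 3, x ≠ 0 → x = 1 ∨ x = -1 by decide) c hc0
    rcases this with rfl | rfl
    · exact Or.inl (Subtype.ext (Prod.ext (Units.ext (by simp [hc])) rfl))
    · exact Or.inr (Subtype.ext (Prod.ext (Units.ext (by simp [hc])) rfl))
  · rintro (rfl | rfl)
    · exact one_mem _
    · rfl

theorem neg_one_ne : (⟨_, neg_one_mem⟩ : cover) ≠ 1 := by
  intro h
  have h1 := congrArg (fun x : cover => (x.1.1 : M) 0 0) h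
  simp at h1
  exact absurd h1 (by decide)

theorem center_eq : Subgroup.center cover = proj.ker := by
  refine le_antisymm (fun x hx => ?_) fun x hx => ?_
  · have h : proj x ∈ Subgroup.center (alternatingGroup (Fin 8)) := Subgroup.mem_center_iff.2 fun σ => by
      obtain ⟨y, rfl⟩ := proj_surjective σ
      rw [← map_mul, ← map_mul, Subgroup.mem_center_iff.1 hx y]
    rwa [alternatingGroup.center_eq_bot (by simp), Subgroup.mem_bot] at h
  · refine Subgroup.mem_center_iff.2 fun y => ?_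
    rcases ker_eq.1 hx with rfl | rfl
    · simp
    · refine Subtype.ext (Prod.ext ?_ ?_) <;> simp

theorem card_center : Nat.card (Subgroup.center cover) = 2 := by
  rw [center_eq, Nat.card_eq_two_iff]
  refine ⟨1, ⟨⟨_, neg_one_mem⟩, ker_eq.2 (Or.inr rfl)⟩, fun h => neg_one_ne (congrArg Subtype.val h).symm, ?_⟩
  ext ⟨x, hx⟩
  simp only [Set.mem_insert_iff, Set.mem_singleton_iff, Set.mem_univ, iff_true]
  rcases ker_eq.1 hx with rfl | rfl
  · exact Or.inl rfl
  · exact Or.inr rfl

/-- A lift of a product of two disjoint transpositions. -/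
theorem exists_lift_two : ∃ x : cover, x * x = ⟨_, neg_one_mem⟩ := by
  have h01 : (0 : Fin 8) ≠ 1 := by decide
  have h23 : (2 : Fin 8) ≠ 3 := by decide
  refine ⟨⟨(ru h01 * ru h23, ⟨swap 0 1 * swap 2 3, Perm.mem_alternatingGroup.2 (by decide)⟩), fun m => ?_⟩, Subtype.ext (Prod.ext ?_ ?_)⟩
  · show r 0 1 * r 2 3 * e m = e (swap 0 1 (swap 2 3 m)) * (r 0 1 * r 2 3)
    rw [mul_assoc, ru_conj h23, mul_neg, ← mul_assoc, ru_conj h01, neg_mul, neg_neg, mul_assoc]
  · refine Units.ext ?_
    show r 0 1 * r 2 3 * (r 0 1 * r 2 3) = -1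
    rw [mul_assoc, ← mul_assoc (r 2 3), r_anti (i := 2) (j := 3) (k := 0) (l := 1) (by decide) (by decide) (by decide) (by decide),
      neg_mul, mul_neg, mul_assoc (r 0 1) (r 2 3), r_sq h23, ← mul_assoc, r_sq h01]
    simp
  · refine Subtype.ext ?_
    show swap (0 : Fin 8) 1 * swap 2 3 * (swap 0 1 * swap 2 3) = 1
    decide

theorem not_split (L : Subgroup cover) : ¬ (Subgroup.center cover).IsComplement' L := by
  intro hL
  obtain ⟨x, hx⟩ := exists_lift_two
  obtain ⟨⟨⟨c, hc⟩, ⟨l, hl⟩⟩, hcl, -⟩ := hL.existsUnique x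
  simp only at hcl
  have hc2 : c * c = 1 := by
    have := pow_card_eq_one' (x := (⟨c, hc⟩ : Subgroup.center cover))
    rw [card_center, sq] at this
    exact congrArg Subtype.val this
  have h2 : x * x = l * l := by
    rw [← hcl, mul_assoc c, ← mul_assoc l c, Subgroup.mem_center_iff.1 hc l, mul_assoc c l l, ← mul_assoc c c, hc2,
      one_mul]
  refine neg_one_ne ?_
  refine Subgroup.disjoint_def.1 hL.disjoint ?_ (x := ⟨_, neg_one_mem⟩) ?_
  · rw [center_eq]; exact ker_eq.2 (Or.inr rfl)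
  · rw [← hx, h2]; exact mul_mem hl hl

/-- A lift of a fixed-point-free involution. -/
theorem exists_lift_four : ∃ x : cover, orderOf x = 2 ∧ x ≠ ⟨_, neg_one_mem⟩ := by
  have h01 : (0 : Fin 8) ≠ 1 := by decide
  have h23 : (2 : Fin 8) ≠ 3 := by decide
  have h45 : (4 : Fin 8) ≠ 5 := by decide
  have h67 : (6 : Fin 8) ≠ 7 := by decide
  let x : cover := ⟨(ru h01 * ru h23 * (ru h45 * ru h67), ⟨swap 0 1 * swap 2 3 * (swap 4 5 * swap 6 7), Perm.mem_alternatingGroup.2 (by decide)⟩), fun m => by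
    show r 0 1 * r 2 3 * (r 4 5 * r 6 7) * e m =
      e (swap 0 1 (swap 2 3 (swap 4 5 (swap 6 7 m)))) * (r 0 1 * r 2 3 * (r 4 5 * r 6 7))
    simp only [mul_assoc]
    rw [ru_conj h67, mul_neg, ← mul_assoc (r 4 5), ru_conj h45, neg_mul, neg_neg, ← mul_assoc (r 2 3),
      ← mul_assoc (r 2 3), ru_conj h23, neg_mul, neg_mul, mul_neg, ← mul_assoc (r 0 1), ← mul_assoc (r 0 1),
      ← mul_assoc (r 0 1), ru_conj h01]
    simp only [mul_assoc, neg_mul, neg_neg]⟩
  have hσ : proj x ≠ 1 := fun hh => absurd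
    (show swap (0 : Fin 8) 1 * swap 2 3 * (swap 4 5 * swap 6 7) = 1 from congrArg Subtype.val hh) (by decide)
  refine ⟨x, orderOf_eq_prime ?_ (fun h => hσ (by rw [h, map_one])), fun h => hσ (by rw [h]; rfl)⟩
  rw [sq]
  refine Subtype.ext (Prod.ext (Units.ext ?_) (Subtype.ext
    (show swap (0 : Fin 8) 1 * swap 2 3 * (swap 4 5 * swap 6 7) *
      (swap 0 1 * swap 2 3 * (swap 4 5 * swap 6 7)) = 1 by decide)))
  show r 0 1 * r 2 3 * (r 4 5 * r 6 7) * (r 0 1 * r 2 3 * (r 4 5 * r 6 7)) = 1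
  have hA : r 0 1 * r 2 3 * (r 0 1 * r 2 3) = (-1 : M) := by
    rw [mul_assoc, ← mul_assoc (r 2 3), r_anti (i := 2) (j := 3) (k := 0) (l := 1) (by decide) (by decide) (by decide) (by decide),
      neg_mul, mul_neg, mul_assoc (r 0 1) (r 2 3), r_sq h23, ← mul_assoc, r_sq h01]
    simp
  have hB : r 4 5 * r 6 7 * (r 4 5 * r 6 7) = (-1 : M) := by
    rw [mul_assoc, ← mul_assoc (r 6 7), r_anti (i := 6) (j := 7) (k := 4) (l := 5) (by decide) (by decide) (by decide) (by decide),
      neg_mul, mul_neg, mul_assoc (r 4 5) (r 6 7), r_sq h67, ← mul_assoc, r_sq h45]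
    simp
  have hc : ∀ i j : Fin 8, i ≠ 4 → i ≠ 5 → i ≠ 6 → i ≠ 7 → j ≠ 4 → j ≠ 5 → j ≠ 6 → j ≠ 7 →
      r 4 5 * r 6 7 * r i j = r i j * (r 4 5 * r 6 7) := by
    intro i j a1 a2 a3 a4 b1 b2 b3 b4
    rw [mul_assoc, r_anti a3.symm b3.symm a4.symm b4.symm, mul_neg, ← mul_assoc,
      r_anti a1.symm b1.symm a2.symm b2.symm, neg_mul, neg_neg, mul_assoc]
  have hAB : r 4 5 * r 6 7 * (r 0 1 * r 2 3) = r 0 1 * r 2 3 * (r 4 5 * r 6 7) := by
    rw [← mul_assoc, hc 0 1 (by decide) (by decide) (by decide) (by decide) (by decide) (by decide) (by decide) (by decide),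
      mul_assoc (r 0 1), hc 2 3 (by decide) (by decide) (by decide) (by decide) (by decide) (by decide) (by decide) (by decide),
      ← mul_assoc (r 0 1)]
  generalize r 0 1 * r 2 3 = A at hA hAB ⊢
  generalize r 4 5 * r 6 7 = B at hB hAB ⊢
  calc A * B * (A * B) = A * (B * A) * B := by simp only [mul_assoc]
    _ = A * A * (B * B) := by rw [hAB]; simp only [mul_assoc]
    _ = 1 := by rw [hA, hB]; simp

theorem exists_cover : ∃ (H : Type) (_ : Group H) (_ : Finite H),
    Cfsg.IsNonsplitDoubleCover H (alternatingGroup (Fin 8)) ∧ ∃ x y : H, x ≠ y ∧ orderOf x = 2 ∧ orderOf y = 2 := by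
  haveI : Finite M := inferInstanceAs (Finite (V → V → ZMod 3))
  haveI : Finite Mˣ := Finite.of_injective _ Units.val_injective
  refine ⟨cover, inferInstance, inferInstance, ⟨card_center, ⟨?_⟩, not_split⟩, ?_⟩
  · exact (QuotientGroup.quotientMulEquivOfEq center_eq).trans
      (QuotientGroup.quotientKerEquivOfSurjective proj proj_surjective)
  · obtain ⟨x, hx, hne⟩ := exists_lift_four
    refine ⟨⟨_, neg_one_mem⟩, x, hne.symm, orderOf_eq_prime ?_ neg_one_ne, hx⟩
    rw [sq]
    exact Subtype.ext (Prod.ext (Units.ext (by simp)) (one_mul _))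

end CfsgLib.DoubleCoverInvol.Eight
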